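import Groth.Agent.DerPlus.LongExact
import Groth.Agent.RDerLib.LES
import Groth.Agent.KInj.Derived
import Groth.Agent.KInj.Adjunction
import Mathlib

/-!
Acyclic objects and the unit of `rightDerivedFunctorPlus`: criterion, Leray, adapted classes.
-/

set_option autoImplicit false
set_option linter.style.haveILetI false
set_option linter.unusedSectionVars false
set_option backward.isDefEq.respectTransparency false
set_option backward.isDefEq.respectTransparency.types false

universe w w' v v' u u'

open CategoryTheory Category Limits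

namespace Groth.Agent.DerPlus

variable {A : Type u} [Category.{v} A] [Abelian A] [HasDerivedCategory.{w} A] [EnoughInjectives A]
  {B : Type u'} [Category.{v'} B] [Abelian B] [HasDerivedCategory.{w'} B]
  (F : A ⥤ B) [F.Additive]

theorem isIso_Qh_map_plus_iff {K L : CochainComplex.Plus B} (f : K ⟶ L) :
    IsIso (DerivedCategory.Plus.Qh.map ((HomotopyCategory.Plus.quotient B).map f)) ↔
      QuasiIso f.hom := by
  rw [← isIso_iff_of_reflects_iso _ DerivedCategory.Plus.ι]
  change IsIso (DerivedCategory.Qh.map ((HomotopyCategory.quotient B (.up ℤ)).map f.hom)) ↔ _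
  rw [DerivedCategory.isIso_Qh_map_iff, HomotopyCategory.quotient_map_mem_quasiIso_iff]
  rfl

theorem isIso_unit_iff {K : CochainComplex.Plus A} {L : CochainComplex.Plus (InjectiveObject A)}
    (i : K ⟶ (InjectiveObject.ι A).mapCochainComplexPlus.obj L) (hi : QuasiIso i.hom) :
    IsIso (F.rightDerivedFunctorPlusUnit.app ((HomotopyCategory.Plus.quotient A).obj K)) ↔
      QuasiIso ((F.mapHomologicalComplex (ComplexShape.up ℤ)).map i.hom) := by
  let η := F.rightDerivedFunctorPlusUnit
  let q := (HomotopyCategory.Plus.quotient A).map i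
  have h := η.naturality q
  haveI h₁ : IsIso (DerivedCategory.Plus.Qh.map q) := isIso_QP_map i hi
  haveI h₂ : IsIso (η.app ((HomotopyCategory.Plus.quotient A).obj
      ((InjectiveObject.ι A).mapCochainComplexPlus.obj L))) := inferInstance
  haveI h₃ : IsIso ((DerivedCategory.Plus.Qh ⋙ F.rightDerivedFunctorPlus).map q) :=
    inferInstanceAs (IsIso (F.rightDerivedFunctorPlus.map (DerivedCategory.Plus.Qh.map q)))
  have key : IsIso (η.app ((HomotopyCategory.Plus.quotient A).obj K)) ↔
      IsIso ((F.mapHomotopyCategoryPlus ⋙ DerivedCategory.Plus.Qh).map q) := by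
    constructor
    · intro _
      exact IsIso.of_isIso_fac_right h
    · intro _
      exact IsIso.of_isIso_fac_right h.symm
  rw [key, ← isIso_iff_of_reflects_iso _ DerivedCategory.Plus.ι]
  change IsIso (DerivedCategory.Qh.map ((HomotopyCategory.quotient B (.up ℤ)).map
    ((F.mapHomologicalComplex (ComplexShape.up ℤ)).map i.hom))) ↔ _
  rw [DerivedCategory.isIso_Qh_map_iff, HomotopyCategory.quotient_map_mem_quasiIso_iff]
  rfl

section Single

variable (X : A)

/-- The single complex as an object of `CochainComplex.Plus`. -/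
noncomputable abbrev singlePlus : CochainComplex.Plus A :=
  ⟨(CochainComplex.singleFunctor A 0).obj X, 0, inferInstance⟩

/-- `X[0]` in the homotopy category comes from the single complex. -/
noncomputable def singlePlusIso : (HomotopyCategory.Plus.singleFunctor A 0).obj X ≅
    (HomotopyCategory.Plus.quotient A).obj (singlePlus X) :=
  ObjectProperty.isoMk _ (Iso.refl _)

theorem mapExtend_quasiIso_iff {K L : CochainComplex A ℕ} (φ : K ⟶ L) :
    QuasiIso ((F.mapHomologicalComplex (ComplexShape.up ℤ)).map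
      (HomologicalComplex.extendMap φ ComplexShape.embeddingUpNat)) ↔
    QuasiIso ((F.mapHomologicalComplex (ComplexShape.up ℕ)).map φ) := by
  let e := ComplexShape.embeddingUpNat
  have hz : ∀ (M : CochainComplex A ℕ) (i' : ℤ), (¬ ∃ i, e.f i = i') →
      IsZero (F.obj ((M.extend e).X i')) ∧
      IsZero ((((F.mapHomologicalComplex (ComplexShape.up ℕ)).obj M).extend e).X i') :=
    fun M i' h => ⟨F.map_isZero (HomologicalComplex.isZero_extend_X M e i' fun i hi => h ⟨i, hi⟩),
      HomologicalComplex.isZero_extend_X _ e i' fun i hi => h ⟨i, hi⟩⟩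
  classical
  let ψ : ∀ (M : CochainComplex A ℕ) (i' : ℤ), F.obj ((M.extend e).X i') ≅
      (((F.mapHomologicalComplex (ComplexShape.up ℕ)).obj M).extend e).X i' := fun M i' =>
    if h : ∃ i, e.f i = i' then F.mapIso (HomologicalComplex.extendXIso M e h.choose_spec) ≪≫
      (HomologicalComplex.extendXIso ((F.mapHomologicalComplex (ComplexShape.up ℕ)).obj M) e
        h.choose_spec).symm
    else (hz M i' h).1.iso (hz M i' h).2
  have hψ : ∀ (M : CochainComplex A ℕ) (i : ℕ) (i' : ℤ) (h : e.f i = i'), (ψ M i').hom =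
      F.map (HomologicalComplex.extendXIso M e h).hom ≫
        (HomologicalComplex.extendXIso ((F.mapHomologicalComplex (ComplexShape.up ℕ)).obj M) e h).inv :=
      fun M i i' h => by
    have h' : ∃ i, e.f i = i' := ⟨i, h⟩
    obtain rfl : h'.choose = i := e.injective_f (h'.choose_spec.trans h.symm)
    simp only [ψ, dif_pos h', Iso.trans_hom, Functor.mapIso_hom, Iso.symm_hom]
  let Ψ : ∀ M : CochainComplex A ℕ, (F.mapHomologicalComplex (ComplexShape.up ℤ)).obj (M.extend e) ≅
      ((F.mapHomologicalComplex (ComplexShape.up ℕ)).obj M).extend e := fun M =>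
    HomologicalComplex.Hom.isoOfComponents (ψ M) fun i' j' _ => by
      by_cases hi : ∃ i, e.f i = i'
      · by_cases hj : ∃ j, e.f j = j'
        · obtain ⟨i, hi⟩ := hi
          obtain ⟨j, hj⟩ := hj
          rw [hψ M i i' hi, hψ M j j' hj]
          change (F.map (HomologicalComplex.extendXIso M e hi).hom ≫ _) ≫ _ =
            F.map ((M.extend e).d i' j') ≫ _
          rw [HomologicalComplex.extend_d_eq _ e hi hj, HomologicalComplex.extend_d_eq _ e hi hj]
          simp
        · exact (hz M j' hj).2.eq_of_tgt _ _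
      · exact (hz M i' hi).1.eq_of_src _ _
  have e' : Arrow.mk ((F.mapHomologicalComplex (ComplexShape.up ℤ)).map
      (HomologicalComplex.extendMap φ e)) ≅ Arrow.mk (HomologicalComplex.extendMap
        ((F.mapHomologicalComplex (ComplexShape.up ℕ)).map φ) e) :=
    Arrow.isoMk (Ψ K) (Ψ L) (by
      ext i'
      by_cases hi : ∃ i, e.f i = i'
      · obtain ⟨i, hi⟩ := hi
        change (ψ K i').hom ≫ (HomologicalComplex.extendMap _ e).f i' =
          F.map ((HomologicalComplex.extendMap φ e).f i') ≫ (ψ L i').hom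
        rw [hψ K i i' hi, hψ L i i' hi, HomologicalComplex.extendMap_f _ e hi,
          HomologicalComplex.extendMap_f _ e hi]
        simp
      · exact (hz K i' hi).1.eq_of_src _ _)
  rw [← HomologicalComplex.mem_quasiIso_iff, (HomologicalComplex.quasiIso B _).arrow_mk_iso_iff e',
    HomologicalComplex.mem_quasiIso_iff, HomologicalComplex.quasiIso_extendMap_iff]

theorem quasiIso_map_res_iff (R : InjectiveResolution X) :
    QuasiIso ((F.mapHomologicalComplex (ComplexShape.up ℕ)).map R.ι) ↔
      (IsIso (F.toRightDerivedZero.app X) ∧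
        ∀ i : ℕ, 0 < i → IsZero ((F.rightDerived i).obj X)) := by
  let φ := (F.mapHomologicalComplex (ComplexShape.up ℕ)).map R.ι
  rw [quasiIso_iff]
  have h0 : ∀ n : ℕ, 0 < n →
      ((F.mapHomologicalComplex (ComplexShape.up ℕ)).obj
        ((CochainComplex.single₀ A).obj X)).ExactAt n := fun n hn => by
    refine ShortComplex.exact_of_isZero_X₂ _ (F.map_isZero ?_)
    exact HomologicalComplex.isZero_single_obj_X _ _ _ _ (by omega)
  have hpos : ∀ n : ℕ, 0 < n → (QuasiIsoAt φ n ↔ IsZero ((F.rightDerived n).obj X)) :=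
    fun n hn => by
    rw [quasiIsoAt_iff_exactAt φ n (h0 n hn), HomologicalComplex.exactAt_iff_isZero_homology]
    exact ⟨fun h => h.of_iso (R.isoRightDerivedObj F n),
      fun h => h.of_iso (R.isoRightDerivedObj F n).symm⟩
  have hzero : QuasiIsoAt φ 0 ↔ IsIso (F.toRightDerivedZero.app X) := by
    rw [quasiIsoAt_iff_isIso_homologyMap, R.toRightDerivedZero_eq F]
    let S := (F.mapHomologicalComplex (ComplexShape.up ℕ)).obj ((CochainComplex.single₀ A).obj X)
    let T := (F.mapHomologicalComplex (ComplexShape.up ℕ)).obj R.cocomplex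
    haveI : IsIso (S.iCycles 0) := S.isIso_iCycles 0 1 (by simp) (by
      change F.map (((CochainComplex.single₀ A).obj X).d 0 1) = 0
      rw [HomologicalComplex.single_obj_d, F.map_zero])
    have hc : HomologicalComplex.cyclesMap φ 0 = S.iCycles 0 ≫ R.toRightDerivedZero' F := by
      rw [← cancel_mono (T.iCycles 0), HomologicalComplex.cyclesMap_i, assoc]
      exact (congrArg (S.iCycles 0 ≫ ·) (R.toRightDerivedZero'_comp_iCycles F)).symm
    have hπ : (CochainComplex.isoHomologyπ₀ S).hom ≫ HomologicalComplex.homologyMap φ 0 =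
        (S.iCycles 0 ≫ R.toRightDerivedZero' F) ≫ (CochainComplex.isoHomologyπ₀ T).hom := by
      rw [← hc]
      exact HomologicalComplex.homologyπ_naturality φ 0
    constructor
    · intro _
      have : IsIso ((S.iCycles 0 ≫ R.toRightDerivedZero' F) ≫
          (CochainComplex.isoHomologyπ₀ T).hom) := by rw [← hπ]; infer_instance
      haveI : IsIso (S.iCycles 0 ≫ R.toRightDerivedZero' F) :=
        IsIso.of_isIso_comp_right _ (CochainComplex.isoHomologyπ₀ T).hom
      haveI : IsIso (R.toRightDerivedZero' F) := IsIso.of_isIso_comp_left (S.iCycles 0) _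
      infer_instance
    · intro _
      haveI : IsIso (R.toRightDerivedZero' F) :=
        IsIso.of_isIso_comp_right _ ((CochainComplex.isoHomologyπ₀ T).hom ≫
          (R.isoRightDerivedObj F 0).inv)
      have : IsIso ((CochainComplex.isoHomologyπ₀ S).hom ≫ HomologicalComplex.homologyMap φ 0) := by
        rw [hπ]; infer_instance
      exact IsIso.of_isIso_comp_left (CochainComplex.isoHomologyπ₀ S).hom _
  constructor
  · exact fun h => ⟨hzero.1 (h 0), fun n hn => (hpos n hn).1 (h n)⟩
  · rintro ⟨h, h'⟩ n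
    rcases Nat.eq_zero_or_pos n with rfl | hn
    · exact hzero.2 h
    · exact (hpos n hn).2 (h' n hn)

theorem isIso_unit_single_iff :
    IsIso (F.rightDerivedFunctorPlusUnit.app ((HomotopyCategory.Plus.singleFunctor A 0).obj X)) ↔
      (IsIso (F.toRightDerivedZero.app X) ∧
        ∀ i : ℕ, 0 < i → IsZero ((F.rightDerived i).obj X)) := by
  rw [NatTrans.isIso_app_iff_of_iso F.rightDerivedFunctorPlusUnit (singlePlusIso X)]
  let R := injectiveResolution X
  let L' : CochainComplex (InjectiveObject A) ℤ :=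
    HomologicalComplex.liftObjectProperty _ R.cochainComplex inferInstance
  have hL' : L'.IsStrictlyGE 0 := by
    rw [← CochainComplex.isStrictlyGE_mapHomologicalComplex_obj_iff _ (InjectiveObject.ι A)]
    exact (inferInstance : R.cochainComplex.IsStrictlyGE 0)
  rw [isIso_unit_iff F (L := ⟨L', 0, hL'⟩)
    (ObjectProperty.homMk R.ι' : singlePlus X ⟶ _) (inferInstanceAs (QuasiIso R.ι')),
    ← quasiIso_map_res_iff F X R, ← mapExtend_quasiIso_iff]
  change QuasiIso ((F.mapHomologicalComplex _).map R.ι') ↔ _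
  rw [InjectiveResolution.ι', Functor.map_comp]
  exact quasiIso_iff_comp_left _ _

end Single

section Leray

theorem exact_map_of_acyclic [PreservesFiniteLimits F] (M : CochainComplex A ℤ) (a : ℤ)
    [M.IsStrictlyGE a] (hM : M.Acyclic)
    (hac : ∀ (n : ℤ) (p : ℕ), 0 < p → IsZero ((F.rightDerived p).obj (M.X n))) :
    ((F.mapHomologicalComplex (ComplexShape.up ℤ)).obj M).Acyclic := by
  let Φ := F
  have hmono : ∀ n, Mono (M.iCycles n) := fun n => inferInstance
  have hse : ∀ n : ℤ, (ShortComplex.mk (M.iCycles n) (M.toCycles n (n + 1)) (by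
      rw [← cancel_mono (M.iCycles (n + 1)), assoc, M.toCycles_i, M.iCycles_d,
        zero_comp])).ShortExact := fun n => by
    refine { exact := ?_, epi_g := ?_ }
    · refine ShortComplex.exact_of_f_is_kernel _ (KernelFork.IsLimit.ofι' _ _ fun k hk =>
        ⟨M.liftCycles k (n + 1) (by simp) ?_, M.liftCycles_i _ _ _ _⟩)
      rw [← M.toCycles_i n (n + 1), ← assoc]
      exact (congrArg (· ≫ M.iCycles (n + 1)) hk).trans zero_comp
    · exact (ShortComplex.exact_of_g_is_cokernel (ShortComplex.mk (M.toCycles n (n + 1))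
        (M.homologyπ (n + 1)) (M.toCycles_comp_homologyπ n (n + 1)))
        (M.homologyIsCokernel n (n + 1) (by simp))).epi_f
        (((M.exactAt_iff_isZero_homology (n + 1)).1 (hM (n + 1))).eq_of_tgt _ _)
  have hZ : ∀ (n : ℤ) (p : ℕ), 0 < p → IsZero ((F.rightDerived p).obj (M.cycles n)) := by
    have hneg : ∀ n, n < a → IsZero (M.cycles n) := fun n hn =>
      IsZero.of_mono (M.iCycles n) (M.isZero_of_isStrictlyGE a n hn)
    have hs : ∀ (k : ℕ) (p : ℕ), 0 < p → IsZero ((F.rightDerived p).obj (M.cycles (a - 1 + k))) := by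
      intro k
      induction k with
      | zero =>
        intro p hp
        haveI : (F.rightDerived p).Additive := inferInstance
        exact (F.rightDerived p).map_isZero (hneg _ (by omega))
      | succ k ih =>
        intro p hp
        have e : (a - 1 + (k + 1 : ℕ)) = a - 1 + k + 1 := by push_cast; ring
        rw [e]
        let T := RDerLib.res (hse (a - 1 + k))
        exact (RDerLib.exact₃ F T p (p + 1) rfl).isZero_X₂
          ((hac _ p hp).eq_of_src _ _) ((ih (p + 1) (by omega)).eq_of_tgt _ _)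
    intro n p hp
    rcases lt_or_ge n (a - 1) with hn | hn
    · haveI : (F.rightDerived p).Additive := inferInstance
      exact (F.rightDerived p).map_isZero (hneg _ (by omega))
    · obtain ⟨k, rfl⟩ : ∃ k : ℕ, n = a - 1 + k := ⟨(n - (a - 1)).toNat, by omega⟩
      exact hs k p hp
  have hepi : ∀ n : ℤ, Epi (F.map (M.toCycles n (n + 1))) := fun n => by
    let T := RDerLib.res (hse n)
    have h1 : Epi ((F.rightDerived 0).map (M.toCycles n (n + 1))) :=
      (RDerLib.exact₃ F T 0 1 rfl).epi_f ((hZ n 1 Nat.one_pos).eq_of_tgt _ _)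
    have : Epi (F.map (M.toCycles n (n + 1)) ≫ F.toRightDerivedZero.app (M.cycles (n + 1))) := by
      rw [F.toRightDerivedZero.naturality]; infer_instance
    have e : F.map (M.toCycles n (n + 1)) = (F.map (M.toCycles n (n + 1)) ≫
        F.toRightDerivedZero.app (M.cycles (n + 1))) ≫
          inv (F.toRightDerivedZero.app (M.cycles (n + 1))) := by simp
    rw [e]
    infer_instance
  intro m
  obtain ⟨n, rfl⟩ : ∃ n, m = n + 1 := ⟨m - 1, by omega⟩
  rw [HomologicalComplex.exactAt_iff' _ n (n + 1) (n + 1 + 1) (by simp) (by simp),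
    ShortComplex.exact_iff_exact_up_to_refinements]
  intro W x hx
  change W ⟶ F.obj (M.X (n + 1)) at x
  change x ≫ F.map (M.d (n + 1) (n + 1 + 1)) = 0 at hx
  obtain ⟨z, hz⟩ := KernelFork.IsLimit.lift'
    (KernelFork.mapIsLimit _ (M.cyclesIsKernel (n + 1) (n + 1 + 1) (by simp)) F) x hx
  haveI := hepi n
  obtain ⟨W', π, hπ, y, hy⟩ := surjective_up_to_refinements_of_epi (F.map (M.toCycles n (n + 1))) z
  refine ⟨W', π, hπ, y, ?_⟩
  change π ≫ x = y ≫ F.map (M.d n (n + 1))
  rw [← hz, reassoc_of% hy, ← M.toCycles_i n (n + 1), F.map_comp]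
  rfl

omit [EnoughInjectives A] [HasDerivedCategory.{w} A] in
theorem quasiIso_iff_acyclic_mappingCone {K L : CochainComplex A ℤ} (f : K ⟶ L) :
    QuasiIso f ↔ (CochainComplex.mappingCone f).Acyclic := by
  rw [← HomologicalComplex.mem_quasiIso_iff, ← HomotopyCategory.quotient_map_mem_quasiIso_iff,
    HomotopyCategory.quasiIso_eq_trW_subcategoryAcyclic]
  exact ((HomotopyCategory.subcategoryAcyclic A).trW_iff_of_distinguished _
    (HomotopyCategory.mappingCone_triangleh_distinguished f)).trans
      (HomotopyCategory.quotient_obj_mem_subcategoryAcyclic_iff_acyclic _)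

theorem leray [PreservesFiniteLimits F] (K : CochainComplex.Plus A)
    (hK : ∀ (m : ℤ) (i : ℕ), 0 < i → IsZero ((F.rightDerived i).obj (K.obj.X m))) :
    IsIso (F.rightDerivedFunctorPlusUnit.app ((HomotopyCategory.Plus.quotient A).obj K)) := by
  obtain ⟨a, ha⟩ := K.property
  obtain ⟨L, hL, i, hi⟩ := CochainComplex.Plus.exists_quasiIso_injective K a
  rw [isIso_unit_iff F i hi]
  have hI : (((InjectiveObject.ι A).mapCochainComplexPlus.obj L).obj).IsStrictlyGE a :=
    (CochainComplex.isStrictlyGE_mapHomologicalComplex_obj_iff L.obj (InjectiveObject.ι A) a).2 hL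
  haveI := CochainComplex.isStrictlyGE_mappingCone i.hom a a (a - 1)
  have hac := exact_map_of_acyclic F (CochainComplex.mappingCone i.hom) (a - 1)
    ((quasiIso_iff_acyclic_mappingCone i.hom).1 hi) fun n p hp => by
      haveI : (F.rightDerived p).Additive := inferInstance
      haveI : Injective (((InjectiveObject.ι A).mapCochainComplexPlus.obj L).obj.X n) :=
        (L.obj.X n).property
      obtain ⟨q, rfl⟩ : ∃ q, p = q + 1 := ⟨p - 1, by omega⟩
      rw [IsZero.iff_id_eq_zero, ← (F.rightDerived (q + 1)).map_id,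
        ← CochainComplex.mappingCone.id_X i.hom n (n + 1) rfl, Functor.map_add, Functor.map_comp,
        Functor.map_comp, (hK (n + 1) (q + 1) hp).eq_of_tgt ((F.rightDerived (q + 1)).map _) 0,
        (F.isZero_rightDerived_obj_injective_succ q
          (((InjectiveObject.ι A).mapCochainComplexPlus.obj L).obj.X n)).eq_of_tgt
            ((F.rightDerived (q + 1)).map _) 0, zero_comp, zero_comp, add_zero]
  rw [quasiIso_iff_acyclic_mappingCone]
  intro n
  exact (hac n).of_iso (CochainComplex.mappingCone.mapHomologicalComplexIso i.hom F)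

end Leray

end Groth.Agent.DerPlus

namespace Groth.Agent.DerPlus

open CategoryTheory Category Limits

section Adapted

variable {A : Type u} [Category.{v} A] [Abelian A] [EnoughInjectives A]
  {B : Type u'} [Category.{v'} B] [Abelian B] (F : A ⥤ B) [F.Additive]

theorem mono_rightDerived_zero {S : ShortComplex A} (hS : S.ShortExact) :
    Mono ((F.rightDerived 0).map S.f) := by
  let T := RDerLib.res hS
  let Φ := (F.mapHomologicalComplex (ComplexShape.up ℕ)).map T.f
  haveI : Mono Φ := (T.map_shortExact F).mono_f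
  haveI : Mono (Φ.f 0) := inferInstanceAs (Mono ((HomologicalComplex.eval B _ 0).map Φ))
  haveI : Mono (HomologicalComplex.cyclesMap Φ 0) := by
    haveI : Mono (HomologicalComplex.cyclesMap Φ 0 ≫ HomologicalComplex.iCycles _ 0) := by
      rw [HomologicalComplex.cyclesMap_i]; infer_instance
    exact mono_of_mono _ (HomologicalComplex.iCycles _ 0)
  haveI : Mono (HomologicalComplex.homologyMap Φ 0) := by
    have e : HomologicalComplex.homologyMap Φ 0 = (CochainComplex.isoHomologyπ₀ _).inv ≫
        HomologicalComplex.cyclesMap Φ 0 ≫ (CochainComplex.isoHomologyπ₀ _).hom := by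
      rw [Iso.eq_inv_comp]
      exact HomologicalComplex.homologyπ_naturality Φ 0
    rw [e]
    infer_instance
  have e : (F.rightDerived 0).map S.f = (T.I₁.isoRightDerivedObj F 0).hom ≫
      HomologicalComplex.homologyMap Φ 0 ≫ (T.I₂.isoRightDerivedObj F 0).inv := by
    rw [← assoc, Iso.eq_comp_inv]
    exact RDerLib.map_f F T 0
  rw [e]
  infer_instance

theorem adapted (I : ObjectProperty A) (h1 : ∀ X : A, ∃ (Y : A) (ι : X ⟶ Y), I Y ∧ Mono ι)
    (h2 : ∀ S : ShortComplex A, S.ShortExact → I S.X₁ → I S.X₂ → I S.X₃ ∧ (S.map F).ShortExact) :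
    ∀ X : A, I X → IsIso (F.toRightDerivedZero.app X) ∧
      ∀ p : ℕ, 0 < p → IsZero ((F.rightDerived p).obj X) := by
  let t := F.toRightDerivedZero
  have data : ∀ X : A, I X → ∃ (J Y Q : A) (j : X ⟶ J) (k : J ⟶ Y) (g : Y ⟶ Q) (w : (j ≫ k) ≫ g = 0),
      Injective J ∧ (ShortComplex.mk (j ≫ k) g w).ShortExact ∧ I Y ∧ I Q ∧
        Mono (F.map (j ≫ k)) ∧ Epi (F.map g) ∧
        (ShortComplex.mk (F.map (j ≫ k)) (F.map g)
          (by rw [← F.map_comp, w, F.map_zero])).Exact := fun X hX => by
    obtain ⟨Y, k, hY, hk⟩ := h1 (Injective.under X)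
    let f := Injective.ι X ≫ k
    have hS : (ShortComplex.mk f (cokernel.π f) (cokernel.condition f)).ShortExact :=
      { exact := ShortComplex.exact_of_g_is_cokernel _ (cokernelIsCokernel f) }
    obtain ⟨hQ, hF⟩ := h2 _ hS hX hY
    exact ⟨_, Y, _, Injective.ι X, k, cokernel.π f, cokernel.condition f, inferInstance, hS, hY,
      hQ, hF.mono_f, hF.epi_g, hF.exact⟩
  have hmono : ∀ X : A, I X → Mono (t.app X) := fun X hX => by
    obtain ⟨J, Y, Q, j, k, g, w, hJ, hS, hY, hQ, hm, he, hx⟩ := data X hX
    haveI := hJ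
    haveI := hm
    haveI : Mono (F.map j ≫ F.map k) := by rw [← F.map_comp]; infer_instance
    haveI : Mono (F.map j) := mono_of_mono _ (F.map k)
    haveI : Mono (t.app X ≫ (F.rightDerived 0).map j) := by
      rw [← t.naturality]; infer_instance
    exact mono_of_mono _ ((F.rightDerived 0).map j)
  have hiso : ∀ X : A, I X → IsIso (t.app X) := fun X hX => by
    obtain ⟨J, Y, Q, j, k, g, w, hJ, hS, hY, hQ, hm, he, hx⟩ := data X hX
    haveI := hJ
    haveI := hmono X hX
    haveI := hmono Q hQ
    haveI : Mono ((F.rightDerived 0).map (j ≫ k)) := mono_rightDerived_zero F hS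
    suffices Epi (t.app X) from isIso_of_mono_of_epi _
    rw [epi_iff_surjective_up_to_refinements]
    intro W x
    let z := x ≫ (F.rightDerived 0).map j ≫ inv (t.app J)
    have hzt : z ≫ F.map k ≫ t.app Y = x ≫ (F.rightDerived 0).map (j ≫ k) := by
      simp only [z, t.naturality, assoc, IsIso.inv_hom_id_assoc, Functor.map_comp]
    have hz0 : (z ≫ F.map k) ≫ F.map g = 0 := by
      have e0 : (F.rightDerived 0).map (j ≫ k) ≫ (F.rightDerived 0).map g = 0 := by
        rw [← Functor.map_comp, w, Functor.map_zero]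
      rw [← cancel_mono (t.app Q), zero_comp, assoc, assoc, t.naturality, ← assoc, ← assoc,
        assoc z, hzt, assoc, e0, comp_zero]
    obtain ⟨W', π, hπ, v, hv⟩ := hx.exact_up_to_refinements (z ≫ F.map k) hz0
    refine ⟨W', π, hπ, v, ?_⟩
    have hv' : π ≫ z ≫ F.map k = v ≫ F.map (j ≫ k) := hv
    rw [← cancel_mono ((F.rightDerived 0).map (j ≫ k))]
    calc (π ≫ x) ≫ (F.rightDerived 0).map (j ≫ k) = π ≫ z ≫ F.map k ≫ t.app Y := by
          rw [assoc, hzt]
      _ = (π ≫ z ≫ F.map k) ≫ t.app Y := by simp only [assoc]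
      _ = v ≫ F.map (j ≫ k) ≫ t.app Y := by rw [hv', assoc]
      _ = (v ≫ t.app X) ≫ (F.rightDerived 0).map (j ≫ k) := by
          rw [t.naturality]; exact (Category.assoc _ _ _).symm
  intro X hX
  refine ⟨hiso X hX, fun p hp => ?_⟩
  obtain ⟨q, rfl⟩ : ∃ q, p = q + 1 := ⟨p - 1, by omega⟩
  clear hp
  induction q generalizing X with
  | zero =>
    obtain ⟨J, Y, Q, j, k, g, w, hJ, hS, hY, hQ, hm, he, hx⟩ := data X hX
    haveI := hJ
    haveI := hiso Q hQ
    haveI := he
    let T := RDerLib.res hS
    have hz : (F.rightDerived (0 + 1)).map (j ≫ k) = 0 := by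
      rw [Functor.map_comp, (F.isZero_rightDerived_obj_injective_succ 0 J).eq_of_tgt
        ((F.rightDerived (0 + 1)).map j) 0, zero_comp]
    haveI : Epi ((F.rightDerived 0).map g) := by
      haveI : Epi (t.app Y ≫ (F.rightDerived 0).map g) := by rw [← t.naturality]; infer_instance
      exact epi_of_epi (t.app Y) _
    have hδ : T.delta F 0 (0 + 1) rfl = 0 :=
      (cancel_epi ((F.rightDerived 0).map g)).1
        ((RDerLib.g_delta F T 0 (0 + 1) rfl).trans comp_zero.symm)
    exact (RDerLib.exact₁ F T 0 (0 + 1) rfl).isZero_X₂ hδ hz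
  | succ q ih =>
    obtain ⟨J, Y, Q, j, k, g, w, hJ, hS, hY, hQ, hm, he, hx⟩ := data X hX
    haveI := hJ
    let T := RDerLib.res hS
    have hz : (F.rightDerived (q + 1 + 1)).map (j ≫ k) = 0 := by
      rw [Functor.map_comp, (F.isZero_rightDerived_obj_injective_succ (q + 1) J).eq_of_tgt
        ((F.rightDerived (q + 1 + 1)).map j) 0, zero_comp]
    exact (RDerLib.exact₁ F T (q + 1) (q + 1 + 1) rfl).isZero_X₂ ((ih Q hQ).eq_of_src _ _) hz

end Adapted

end Groth.Agent.DerPlus
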