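import Mathlib.Algebra.Homology.DerivedCategory.RightDerivedFunctorPlus
import Mathlib.Algebra.Homology.DerivedCategory.HomologySequence
import Mathlib.Algebra.Homology.DerivedCategory.ShortExact
import Mathlib.Algebra.Homology.HomologicalComplexAbelian
import Mathlib.CategoryTheory.Triangulated.Functor
import Mathlib.CategoryTheory.Triangulated.Subcategory

/-!
The long exact sequence of right derived functors on the bounded below derived category.
-/

set_option autoImplicit false
set_option linter.style.haveILetI false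
universe w w' v v' u u'

namespace Groth.Agent.DerPlus

open CategoryTheory Limits Pretriangulated

variable {C : Type u} [Category.{v} C] [Abelian C] [HasDerivedCategory.{w} C] [EnoughInjectives C]
  {D : Type u'} [Category.{v'} D] [Abelian D] [HasDerivedCategory.{w'} D]

/-- a complex of injectives -/
noncomputable abbrev inclInj (C : Type u) [Category.{v} C] [Abelian C] :
    HomotopyCategory.Plus (InjectiveObject C) ⥤ HomotopyCategory.Plus C :=
  (InjectiveObject.ι C).mapHomotopyCategoryPlus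

/-- the comparison isomorphism on complexes of injectives -/
noncomputable def injIso (F : C ⥤ D) [F.Additive] :
    inclInj C ⋙ F.mapHomotopyCategoryPlus ⋙ DerivedCategory.Plus.Qh ≅
      (inclInj C ⋙ DerivedCategory.Plus.Qh) ⋙ F.rightDerivedFunctorPlus :=
  haveI : ∀ Y, IsIso (F.rightDerivedFunctorPlusUnit.app ((inclInj C).obj Y)) := fun _ => inferInstance
  NatIso.ofComponents (fun Y => asIso (F.rightDerivedFunctorPlusUnit.app ((inclInj C).obj Y)))
    (fun f => F.rightDerivedFunctorPlusUnit.naturality ((inclInj C).map f))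

/-- the image in `D⁺(C)` of a bounded below complex -/
noncomputable abbrev QP (X : CochainComplex.Plus C) : DerivedCategory.Plus C :=
  DerivedCategory.Plus.Qh.obj ((HomotopyCategory.Plus.quotient C).obj X)

omit [EnoughInjectives C] in
lemma isIso_QP_map {X Y : CochainComplex.Plus C} (i : X ⟶ Y) (hi : CochainComplex.Plus.quasiIso C i) :
    IsIso (DerivedCategory.Plus.Qh.map ((HomotopyCategory.Plus.quotient C).map i)) :=
  Localization.inverts DerivedCategory.Plus.Qh (HomotopyCategory.Plus.quasiIso C) _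
    ((HomotopyCategory.quotient_map_mem_quasiIso_iff i.hom).2 hi)

lemma exists_injective_triangle {X₁ X₂ X₃ : CochainComplex.Plus C} (f : X₁ ⟶ X₂) (g : X₂ ⟶ X₃)
    (w : f.hom ≫ g.hom = 0) (hS : (ShortComplex.mk f.hom g.hom w).ShortExact) :
    ∃ (T : Triangle (HomotopyCategory.Plus (InjectiveObject C))) (_ : T ∈ distinguishedTriangles)
      (e₁ : QP X₁ ≅ DerivedCategory.Plus.Qh.obj ((inclInj C).obj T.obj₁))
      (e₂ : QP X₂ ≅ DerivedCategory.Plus.Qh.obj ((inclInj C).obj T.obj₂))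
      (e₃ : QP X₃ ≅ DerivedCategory.Plus.Qh.obj ((inclInj C).obj T.obj₃)),
      DerivedCategory.Plus.Qh.map ((HomotopyCategory.Plus.quotient C).map f) ≫ e₂.hom =
        e₁.hom ≫ DerivedCategory.Plus.Qh.map ((inclInj C).map T.mor₁) ∧
      DerivedCategory.Plus.Qh.map ((HomotopyCategory.Plus.quotient C).map g) ≫ e₃.hom =
        e₂.hom ≫ DerivedCategory.Plus.Qh.map ((inclInj C).map T.mor₂) := by
  obtain ⟨n₁, hn₁⟩ := X₁.property
  obtain ⟨n₂, hn₂⟩ := X₂.property
  obtain ⟨L₁, -, i₁, hi₁⟩ := CochainComplex.Plus.exists_quasiIso_injective X₁ n₁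
  obtain ⟨L₂, -, i₂, hi₂⟩ := CochainComplex.Plus.exists_quasiIso_injective X₂ n₂
  have := isIso_QP_map i₁ hi₁
  have := isIso_QP_map i₂ hi₂
  let M₁ := (HomotopyCategory.Plus.quotient (InjectiveObject C)).obj L₁
  let M₂ := (HomotopyCategory.Plus.quotient (InjectiveObject C)).obj L₂
  let j₁ := asIso (DerivedCategory.Plus.Qh.map ((HomotopyCategory.Plus.quotient C).map i₁))
  let e₁ : QP X₁ ≅ DerivedCategory.Plus.Qh.obj ((inclInj C).obj M₁) := j₁
  let j₂ := asIso (DerivedCategory.Plus.Qh.map ((HomotopyCategory.Plus.quotient C).map i₂))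
  let e₂ : QP X₂ ≅ DerivedCategory.Plus.Qh.obj ((inclInj C).obj M₂) := j₂
  obtain ⟨φ', hφ'⟩ := (DerivedCategory.Plus.Qh_map_bijective_of_isKInjective
    ((inclInj C).obj M₁) ((inclInj C).obj M₂)
    (inferInstanceAs (CochainComplex.IsKInjective
      (((InjectiveObject.ι C).mapHomologicalComplex (.up ℤ)).obj L₂.obj)))).2
    (e₁.inv ≫ DerivedCategory.Plus.Qh.map ((HomotopyCategory.Plus.quotient C).map f) ≫ e₂.hom)
  obtain ⟨φ, rfl⟩ := (inclInj C).map_surjective φ'
  obtain ⟨N, ψ, χ, hT⟩ := distinguished_cocone_triangle φ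
  -- a distinguished triangle on `f` in the bounded below derived category
  obtain ⟨Z, g', h', hZ⟩ := distinguished_cocone_triangle
    (DerivedCategory.Plus.Qh.map ((HomotopyCategory.Plus.quotient C).map f))
  let q := DerivedCategory.quotientCompQhIso C
  let iT := isoTriangleOfIso₁₂ _ _ (DerivedCategory.Plus.ι.map_distinguished _ hZ)
    (DerivedCategory.triangleOfSES_distinguished hS) (q.app X₁.obj) (q.app X₂.obj)
    (q.hom.naturality f.hom)
  let eZ : Z ≅ QP X₃ :=
    DerivedCategory.Plus.ι.preimageIso (Triangle.π₃.mapIso iT ≪≫ (q.app X₃.obj).symm)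
  have hg' : g' ≫ eZ.hom = DerivedCategory.Plus.Qh.map ((HomotopyCategory.Plus.quotient C).map g) := by
    apply DerivedCategory.Plus.ι.map_injective
    have h₁ : DerivedCategory.Plus.ι.map g' ≫ iT.hom.hom₃ =
        q.hom.app X₂.obj ≫ DerivedCategory.Q.map g.hom := iT.hom.comm₂
    rw [Functor.map_comp, Functor.preimageIso_hom, Functor.map_preimage]
    show DerivedCategory.Plus.ι.map g' ≫ iT.hom.hom₃ ≫ q.inv.app X₃.obj = _
    exact ((Category.assoc _ _ _).symm.trans (congrArg (· ≫ q.inv.app X₃.obj) h₁)).trans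
      ((Category.assoc _ _ _).trans (NatIso.naturality_2 q g.hom))
  let e := isoTriangleOfIso₁₂ _ _ hZ
    ((inclInj C ⋙ DerivedCategory.Plus.Qh).map_distinguished _ hT) e₁ e₂ (by
      show DerivedCategory.Plus.Qh.map ((HomotopyCategory.Plus.quotient C).map f) ≫ e₂.hom =
        e₁.hom ≫ DerivedCategory.Plus.Qh.map ((inclInj C).map φ)
      rw [hφ', Iso.hom_inv_id_assoc])
  refine ⟨_, hT, e₁, e₂, eZ.symm ≪≫ Triangle.π₃.mapIso e, ?_, ?_⟩
  · show _ = e₁.hom ≫ DerivedCategory.Plus.Qh.map ((inclInj C).map φ)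
    rw [hφ', Iso.hom_inv_id_assoc]
    rfl
  · rw [← hg']
    show (g' ≫ eZ.hom) ≫ eZ.inv ≫ e.hom.hom₃ = _
    rw [Category.assoc, Iso.hom_inv_id_assoc]
    exact e.hom.comm₂

theorem long_exact (F : C ⥤ D) [F.Additive] {X₁ X₂ X₃ : CochainComplex.Plus C} (f : X₁ ⟶ X₂)
    (g : X₂ ⟶ X₃) (hf : Mono ((CochainComplex.Plus.ι C).map f))
    (hg : Epi ((CochainComplex.Plus.ι C).map g))
    (hex : kernelSubobject ((CochainComplex.Plus.ι C).map g) =
      imageSubobject ((CochainComplex.Plus.ι C).map f)) (i : ℤ) :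
    let Φ := HomotopyCategory.Plus.quotient C ⋙ DerivedCategory.Plus.Qh ⋙
      F.rightDerivedFunctorPlus ⋙ DerivedCategory.Plus.ι ⋙ DerivedCategory.homologyFunctor D i
    let Ψ := HomotopyCategory.Plus.quotient C ⋙ DerivedCategory.Plus.Qh ⋙
      F.rightDerivedFunctorPlus ⋙ DerivedCategory.Plus.ι ⋙ DerivedCategory.homologyFunctor D (i + 1)
    kernelSubobject (Φ.map g) = imageSubobject (Φ.map f) ∧ ∃ δ : Φ.obj X₃ ⟶ Ψ.obj X₁,
      kernelSubobject δ = imageSubobject (Φ.map g) ∧ kernelSubobject (Ψ.map f) = imageSubobject δ := by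
  intro Φ Ψ
  have eq_of_exact : ∀ {S : ShortComplex D}, S.Exact → kernelSubobject S.g = imageSubobject S.f :=
    fun {S} h => ((S.exact_iff_image_eq_kernel).1 h).symm
  have w : f.hom ≫ g.hom = 0 := by
    have hle : imageSubobject ((CochainComplex.Plus.ι C).map f) ≤
        kernelSubobject ((CochainComplex.Plus.ι C).map g) := hex.ge
    have h1 := imageSubobject_arrow_comp ((CochainComplex.Plus.ι C).map f)
    have h2 := Subobject.ofLE_arrow hle
    show (CochainComplex.Plus.ι C).map f ≫ (CochainComplex.Plus.ι C).map g = 0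
    rw [← h1, Category.assoc, ← h2, Category.assoc, kernelSubobject_arrow_comp, comp_zero, comp_zero]
  have hS : (ShortComplex.mk f.hom g.hom w).ShortExact :=
    { exact := (ShortComplex.exact_iff_image_eq_kernel _).2 hex.symm
      mono_f := hf
      epi_g := hg }
  obtain ⟨T, hT, e₁, e₂, e₃, c₁, c₂⟩ := exists_injective_triangle f g w hS
  let K := inclInj C ⋙ F.mapHomotopyCategoryPlus ⋙ DerivedCategory.Plus.Qh
  let T' := DerivedCategory.Plus.ι.mapTriangle.obj (K.mapTriangle.obj T)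
  have hT' : T' ∈ distinguishedTriangles :=
    DerivedCategory.Plus.ι.map_distinguished _ (K.map_distinguished _ hT)
  let α := injIso F
  let H : ℤ → DerivedCategory.Plus D ⥤ D := fun n =>
    DerivedCategory.Plus.ι ⋙ DerivedCategory.homologyFunctor D n
  let R : CochainComplex.Plus C → DerivedCategory.Plus D := fun X =>
    F.rightDerivedFunctorPlus.obj (QP X)
  let ε₁ (n : ℤ) : (DerivedCategory.homologyFunctor D n).obj T'.obj₁ ≅ (H n).obj (R X₁) :=
    (H n).mapIso (α.app T.obj₁ ≪≫ F.rightDerivedFunctorPlus.mapIso e₁.symm)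
  let ε₂ (n : ℤ) : (DerivedCategory.homologyFunctor D n).obj T'.obj₂ ≅ (H n).obj (R X₂) :=
    (H n).mapIso (α.app T.obj₂ ≪≫ F.rightDerivedFunctorPlus.mapIso e₂.symm)
  let ε₃ (n : ℤ) : (DerivedCategory.homologyFunctor D n).obj T'.obj₃ ≅ (H n).obj (R X₃) :=
    (H n).mapIso (α.app T.obj₃ ≪≫ F.rightDerivedFunctorPlus.mapIso e₃.symm)
  have k : ∀ {A B : CochainComplex.Plus C} (u : A ⟶ B)
      {P Q : HomotopyCategory.Plus (InjectiveObject C)} (m : P ⟶ Q)
      (a : QP A ≅ DerivedCategory.Plus.Qh.obj ((inclInj C).obj P))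
      (b : QP B ≅ DerivedCategory.Plus.Qh.obj ((inclInj C).obj Q)),
      DerivedCategory.Plus.Qh.map ((HomotopyCategory.Plus.quotient C).map u) ≫ b.hom =
        a.hom ≫ DerivedCategory.Plus.Qh.map ((inclInj C).map m) →
      K.map m ≫ α.hom.app Q ≫ F.rightDerivedFunctorPlus.map b.inv =
        (α.hom.app P ≫ F.rightDerivedFunctorPlus.map a.inv) ≫
          F.rightDerivedFunctorPlus.map
            (DerivedCategory.Plus.Qh.map ((HomotopyCategory.Plus.quotient C).map u)) := by
    intro A B u P Q m a b h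
    rw [← Category.assoc, α.hom.naturality, Category.assoc, Category.assoc]
    congr 1
    show F.rightDerivedFunctorPlus.map (DerivedCategory.Plus.Qh.map ((inclInj C).map m)) ≫ _ = _
    rw [← Functor.map_comp, ← Functor.map_comp]
    congr 1
    rw [Iso.eq_inv_comp, ← Category.assoc, Iso.comp_inv_eq]
    exact h.symm
  have sq₁ : ∀ n, (DerivedCategory.homologyFunctor D n).map T'.mor₁ ≫ (ε₂ n).hom =
      (ε₁ n).hom ≫ (H n).map (F.rightDerivedFunctorPlus.map
        (DerivedCategory.Plus.Qh.map ((HomotopyCategory.Plus.quotient C).map f))) := fun n =>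
    ((H n).map_comp _ _).symm.trans
      ((congrArg (H n).map (k f T.mor₁ e₁ e₂ c₁)).trans ((H n).map_comp _ _))
  have sq₂ : ∀ n, (DerivedCategory.homologyFunctor D n).map T'.mor₂ ≫ (ε₃ n).hom =
      (ε₂ n).hom ≫ (H n).map (F.rightDerivedFunctorPlus.map
        (DerivedCategory.Plus.Qh.map ((HomotopyCategory.Plus.quotient C).map g))) := fun n =>
    ((H n).map_comp _ _).symm.trans
      ((congrArg (H n).map (k g T.mor₂ e₂ e₃ c₂)).trans ((H n).map_comp _ _))
  let δ' := DerivedCategory.HomologySequence.δ T' i (i + 1) rfl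
  have wfg : Φ.map f ≫ Φ.map g = 0 := by
    rw [← cancel_epi (ε₁ i).hom, comp_zero]
    show (ε₁ i).hom ≫ (H i).map _ ≫ (H i).map _ = 0
    rw [← reassoc_of% (sq₁ i), ← sq₂ i, ← Functor.map_comp_assoc,
      comp_distTriang_mor_zero₁₂ _ hT', Functor.map_zero, zero_comp]
  refine ⟨eq_of_exact (S := ShortComplex.mk (Φ.map f) (Φ.map g) wfg) ?_,
    (ε₃ i).inv ≫ δ' ≫ (ε₁ (i + 1)).hom, ?_, ?_⟩
  · exact ShortComplex.exact_of_iso
      (ShortComplex.isoMk (ε₁ i) (ε₂ i) (ε₃ i) (sq₁ i).symm (sq₂ i).symm)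
      (DerivedCategory.HomologySequence.exact₂ T' hT' i)
  · refine eq_of_exact (S := ShortComplex.mk (Φ.map g) ((ε₃ i).inv ≫ δ' ≫ (ε₁ (i + 1)).hom) ?_) ?_
    · rw [← cancel_epi (ε₂ i).hom, comp_zero]
      show (ε₂ i).hom ≫ (H i).map _ ≫ _ = 0
      rw [← reassoc_of% (sq₂ i), Iso.hom_inv_id_assoc,
        DerivedCategory.HomologySequence.comp_δ_assoc T' hT' i (i + 1), zero_comp]
    · exact ShortComplex.exact_of_iso
        (ShortComplex.isoMk (ε₂ i) (ε₃ i) (ε₁ (i + 1)) (sq₂ i).symm (Iso.hom_inv_id_assoc _ _))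
        (DerivedCategory.HomologySequence.exact₃ T' hT' i (i + 1))
  · refine eq_of_exact (S := ShortComplex.mk ((ε₃ i).inv ≫ δ' ≫ (ε₁ (i + 1)).hom) (Ψ.map f) ?_) ?_
    · show ((ε₃ i).inv ≫ δ' ≫ (ε₁ (i + 1)).hom) ≫ (H (i + 1)).map _ = 0
      rw [Category.assoc, Category.assoc, ← sq₁ (i + 1),
        DerivedCategory.HomologySequence.δ_comp_assoc T' hT' i (i + 1), zero_comp, comp_zero]
    · exact ShortComplex.exact_of_iso
        (ShortComplex.isoMk (ε₃ i) (ε₁ (i + 1)) (ε₂ (i + 1)) (Iso.hom_inv_id_assoc _ _)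
          (sq₁ (i + 1)).symm)
        (DerivedCategory.HomologySequence.exact₁ T' hT' i (i + 1))

end Groth.Agent.DerPlus
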