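import Groth.Agent.DerPlus.Acyclic

/-!
Derived adjunction and composition on bounded below derived categories.
-/

set_option autoImplicit false
set_option linter.style.haveILetI false
set_option linter.unusedSectionVars false
set_option backward.isDefEq.respectTransparency false
set_option backward.isDefEq.respectTransparency.types false

universe w w' w'' v v' v'' u u' u''

open CategoryTheory Category Limits

namespace Groth.Agent.DerPlus

variable {A : Type u} [Category.{v} A] [Abelian A] [HasDerivedCategory.{w} A]
  {B : Type u'} [Category.{v'} B] [Abelian B] [HasDerivedCategory.{w'} B]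

/-- complexes of injectives in the bounded below homotopy category -/
def injProp (A : Type u) [Category.{v} A] [Abelian A] : ObjectProperty (HomotopyCategory.Plus A) :=
  fun X => ∃ L : CochainComplex.Plus (InjectiveObject A),
    X = (HomotopyCategory.Plus.quotient A).obj ((InjectiveObject.ι A).mapCochainComplexPlus.obj L)

theorem isKInjective_inj (L : CochainComplex.Plus (InjectiveObject A)) :
    CochainComplex.IsKInjective ((HomotopyCategory.Plus.quotient A).obj
      ((InjectiveObject.ι A).mapCochainComplexPlus.obj L)).1.as := by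
  obtain ⟨n, hn⟩ := L.property
  haveI : (((InjectiveObject.ι A).mapCochainComplexPlus.obj L).obj).IsStrictlyGE n :=
    (CochainComplex.isStrictlyGE_mapHomologicalComplex_obj_iff L.obj (InjectiveObject.ι A) n).2 hn
  haveI : ∀ i, Injective (((InjectiveObject.ι A).mapCochainComplexPlus.obj L).obj.X i) :=
    fun i => (L.obj.X i).property
  exact CochainComplex.isKInjective_of_injective
    ((InjectiveObject.ι A).mapCochainComplexPlus.obj L).obj n

theorem isDeforming_plus [EnoughInjectives A] {H : Type*} [Category* H]
    (G : HomotopyCategory.Plus A ⥤ H) :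
    KInj.IsDeforming (DerivedCategory.Plus.Qh : _ ⥤ DerivedCategory.Plus A) G (injProp A) where
  surj {X I} hI := by
    obtain ⟨L, rfl⟩ := hI
    exact (DerivedCategory.Plus.Qh_map_bijective_of_isKInjective X _ (isKInjective_inj L)).2
  wd {X I} f g hI e := by
    obtain ⟨L, rfl⟩ := hI
    exact congrArg G.map
      ((DerivedCategory.Plus.Qh_map_bijective_of_isKInjective X _ (isKInjective_inj L)).1 e)
  res d := by
    obtain ⟨X, ⟨e⟩⟩ : ∃ X, Nonempty (DerivedCategory.Plus.Qh.obj X ≅ d) :=
      ⟨_, ⟨(DerivedCategory.Plus.Qh : _ ⥤ DerivedCategory.Plus A).objObjPreimageIso d⟩⟩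
    obtain ⟨K, rfl⟩ := HomotopyCategory.Plus.quotient_obj_surjective X
    obtain ⟨n, hn⟩ := K.property
    obtain ⟨L, -, i, hi⟩ := CochainComplex.Plus.exists_quasiIso_injective K n
    haveI := isIso_QP_map i hi
    exact ⟨_, ⟨L, rfl⟩, ⟨e.symm ≪≫
      asIso (DerivedCategory.Plus.Qh.map ((HomotopyCategory.Plus.quotient A).map i))⟩⟩

variable [EnoughInjectives A]

theorem isIso_unit_of_exact (F : A ⥤ B) [F.Additive] [PreservesFiniteLimits F]
    [PreservesFiniteColimits F] : IsIso F.rightDerivedFunctorPlusUnit := by
  haveI : ∀ X, IsIso (F.rightDerivedFunctorPlusUnit.app X) := fun X => by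
    obtain ⟨K, rfl⟩ := HomotopyCategory.Plus.quotient_obj_surjective X
    obtain ⟨n, hn⟩ := K.property
    obtain ⟨L, -, i, hi⟩ := CochainComplex.Plus.exists_quasiIso_injective K n
    rw [isIso_unit_iff F i hi]
    haveI : QuasiIso i.hom := hi
    infer_instance
  exact NatIso.isIso_of_isIso_app _

/-- the adjunction on bounded below homotopy categories -/
noncomputable def plusAdj {L : A ⥤ B} {R : B ⥤ A} (adj : L ⊣ R) [L.Additive] [R.Additive] :
    L.mapHomotopyCategoryPlus ⊣ R.mapHomotopyCategoryPlus where
  unit :=
    { app := fun X => ObjectProperty.homMk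
        ((KInj.mapHomotopyCategoryAdj adj (ComplexShape.up ℤ)).unit.app X.obj)
      naturality := fun X Y f => ObjectProperty.hom_ext _
        ((KInj.mapHomotopyCategoryAdj adj (ComplexShape.up ℤ)).unit.naturality f.hom) }
  counit :=
    { app := fun X => ObjectProperty.homMk
        ((KInj.mapHomotopyCategoryAdj adj (ComplexShape.up ℤ)).counit.app X.obj)
      naturality := fun X Y f => ObjectProperty.hom_ext _
        ((KInj.mapHomotopyCategoryAdj adj (ComplexShape.up ℤ)).counit.naturality f.hom) }
  left_triangle_components X := ObjectProperty.hom_ext _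
    ((KInj.mapHomotopyCategoryAdj adj (ComplexShape.up ℤ)).left_triangle_components X.obj)
  right_triangle_components X := ObjectProperty.hom_ext _
    ((KInj.mapHomotopyCategoryAdj adj (ComplexShape.up ℤ)).right_triangle_components X.obj)

theorem nonempty_derived_adj [EnoughInjectives B] {L : A ⥤ B} {R : B ⥤ A} (adj : L ⊣ R)
    [L.Additive] [R.Additive] [PreservesFiniteLimits L] [PreservesFiniteColimits L] :
    Nonempty (L.rightDerivedFunctorPlus ⊣ R.rightDerivedFunctorPlus) :=
  haveI := isIso_unit_of_exact L
  KInj.nonempty_derived_adjunction (plusAdj adj) (HomotopyCategory.Plus.quasiIso A)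
    (HomotopyCategory.Plus.quasiIso B) (asIso L.rightDerivedFunctorPlusUnit).symm
    R.rightDerivedFunctorPlusUnit (isDeforming_plus _)

section Comp

variable {C : Type u''} [Category.{v''} C] [Abelian C] [HasDerivedCategory.{w''} C]
  [EnoughInjectives B] (F : A ⥤ B) [F.Additive] (G : B ⥤ C) [G.Additive]

theorem isIso_composite_app [PreservesFiniteLimits G]
    (hFG : ∀ I : A, Injective I →
      IsIso (G.rightDerivedFunctorPlusUnit.app ((HomotopyCategory.Plus.singleFunctor B 0).obj (F.obj I))))
    (L : CochainComplex.Plus (InjectiveObject A)) :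
    IsIso (G.rightDerivedFunctorPlusUnit.app (F.mapHomotopyCategoryPlus.obj
      ((HomotopyCategory.Plus.quotient A).obj ((InjectiveObject.ι A).mapCochainComplexPlus.obj L)))) := by
  obtain ⟨n, hn⟩ := L.property
  haveI : (((InjectiveObject.ι A).mapCochainComplexPlus.obj L).obj).IsStrictlyGE n :=
    (CochainComplex.isStrictlyGE_mapHomologicalComplex_obj_iff L.obj (InjectiveObject.ι A) n).2 hn
  let K : CochainComplex.Plus B :=
    ⟨(F.mapHomologicalComplex (ComplexShape.up ℤ)).obj
      ((InjectiveObject.ι A).mapCochainComplexPlus.obj L).obj, n, inferInstance⟩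
  exact leray G K fun m i hi =>
    ((isIso_unit_single_iff G _).1 (hFG _ (L.obj.X m).property)).2 i hi

theorem isRightDerivedFunctor_comp [PreservesFiniteLimits G]
    (hFG : ∀ I : A, Injective I →
      IsIso (G.rightDerivedFunctorPlusUnit.app ((HomotopyCategory.Plus.singleFunctor B 0).obj (F.obj I)))) :
    (F.rightDerivedFunctorPlus ⋙ G.rightDerivedFunctorPlus).IsRightDerivedFunctor
      (Functor.whiskerRight (Functor.mapHomotopyCategoryPlusCompIso (Iso.refl (F ⋙ G))).inv
          DerivedCategory.Plus.Qh ≫
        (Functor.associator _ _ _).hom ≫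
        Functor.whiskerLeft F.mapHomotopyCategoryPlus G.rightDerivedFunctorPlusUnit ≫
        (Functor.associator _ _ _).inv ≫
        Functor.whiskerRight F.rightDerivedFunctorPlusUnit G.rightDerivedFunctorPlus ≫
        (Functor.associator _ _ _).hom)
      (HomotopyCategory.Plus.quasiIso A) := by
  refine (isDeforming_plus _).isRightDerivedFunctor (HomotopyCategory.Plus.quasiIso A) _ _
    fun X hX => ?_
  obtain ⟨L, rfl⟩ := hX
  haveI := isIso_composite_app F G hFG L
  haveI : IsIso (F.rightDerivedFunctorPlusUnit.app ((HomotopyCategory.Plus.quotient A).obj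
      ((InjectiveObject.ι A).mapCochainComplexPlus.obj L))) := inferInstance
  simp only [NatTrans.comp_app, Functor.associator_hom_app, Functor.associator_inv_app,
    Functor.whiskerRight_app, Functor.whiskerLeft_app]
  infer_instance

theorem nonempty_comp_iso [PreservesFiniteLimits G] (H : A ⥤ C) [H.Additive] (e : F ⋙ G ≅ H)
    (hFG : ∀ I : A, Injective I →
      IsIso (G.rightDerivedFunctorPlusUnit.app ((HomotopyCategory.Plus.singleFunctor B 0).obj (F.obj I)))) :
    Nonempty (F.rightDerivedFunctorPlus ⋙ G.rightDerivedFunctorPlus ≅ H.rightDerivedFunctorPlus) := by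
  haveI := isRightDerivedFunctor_comp F G hFG
  let ee : (F ⋙ G).mapHomotopyCategoryPlus ⋙ DerivedCategory.Plus.Qh ≅
      H.mapHomotopyCategoryPlus ⋙ DerivedCategory.Plus.Qh :=
    Functor.isoWhiskerRight ((Functor.mapHomotopyCategoryPlusCompIso (Iso.refl (F ⋙ G))).symm ≪≫
      Functor.mapHomotopyCategoryPlusCompIso e) _
  exact ⟨Functor.rightDerivedNatIso _ _
    (Functor.whiskerRight (Functor.mapHomotopyCategoryPlusCompIso (Iso.refl (F ⋙ G))).inv
          DerivedCategory.Plus.Qh ≫
        (Functor.associator _ _ _).hom ≫
        Functor.whiskerLeft F.mapHomotopyCategoryPlus G.rightDerivedFunctorPlusUnit ≫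
        (Functor.associator _ _ _).inv ≫
        Functor.whiskerRight F.rightDerivedFunctorPlusUnit G.rightDerivedFunctorPlus ≫
        (Functor.associator _ _ _).hom)
    H.rightDerivedFunctorPlusUnit (HomotopyCategory.Plus.quasiIso A) ee⟩

end Comp

end Groth.Agent.DerPlus
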