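import Mathlib

/-!
Ext classes of positive degree are killed by epimorphisms; the criterion for `mapExactFunctor`
to be bijective; fully faithfulness of derived functors of embeddings with enough injectives.
-/

set_option autoImplicit false
set_option linter.style.haveILetI false
set_option linter.unusedSectionVars false
set_option backward.isDefEq.respectTransparency false
set_option backward.isDefEq.respectTransparency.types false

universe w w' v v' u u'

open CategoryTheory Category Limits Abelian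

namespace Groth.Agent.DerPlus

section Efface

variable {A : Type u} [Category.{v} A] [Abelian A] [HasExt.{w} A]

attribute [local instance] HasDerivedCategory.standard in
theorem exists_epi_killing {X Y : A} (n : ℕ) (x : Ext.{w} X Y (n + 1)) :
    ∃ (E : A) (e : E ⟶ X), Epi e ∧ (Ext.mk₀ e).comp x (zero_add _) = 0 := by
  let SX := (CochainComplex.singleFunctor A 0).obj X
  let SY := (CochainComplex.singleFunctor A 0).obj Y
  let T := SY⟦((n + 1 : ℕ) : ℤ)⟧
  let c : DerivedCategory.Q.obj T ≅ (DerivedCategory.Q.obj SY)⟦((n + 1 : ℕ) : ℤ)⟧ :=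
    (DerivedCategory.Q.commShiftIso ((n + 1 : ℕ) : ℤ)).app SY
  let eX : (DerivedCategory.singleFunctor A 0).obj X ≅ DerivedCategory.Q.obj SX :=
    (DerivedCategory.singleFunctorIsoCompQ A 0).app X
  let eY : (DerivedCategory.singleFunctor A 0).obj Y ≅ DerivedCategory.Q.obj SY :=
    (DerivedCategory.singleFunctorIsoCompQ A 0).app Y
  obtain ⟨X', hX', s, hs, g, hg⟩ := DerivedCategory.right_fac_of_isStrictlyLE
    (eX.inv ≫ x.hom ≫ eY.hom⟦((n + 1 : ℕ) : ℤ)⟧' ≫ c.inv : DerivedCategory.Q.obj SX ⟶ _) 0
  haveI hq : QuasiIso s := (DerivedCategory.isIso_Q_map_iff_quasiIso (φ := s)).1 hs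
  let π : SX.X 0 ⟶ X := (HomologicalComplex.singleObjXSelf (ComplexShape.up ℤ) 0 X).hom
  let e : X'.X 0 ⟶ X := s.f 0 ≫ π
  have hepi : Epi e := by
    have h0 : X'.d 0 1 = 0 := (X'.isZero_of_isStrictlyLE 0 1 (by omega)).eq_of_tgt _ _
    haveI : IsIso (X'.iCycles 0) := X'.isIso_iCycles 0 1 (by simp) h0
    haveI : IsIso (SX.iCycles 0) := SX.isIso_iCycles 0 1 (by simp)
      ((SX.isZero_of_isStrictlyLE 0 1 (by omega)).eq_of_tgt _ _)
    haveI : IsIso (SX.homologyπ 0) :=
      SX.isIso_homologyπ (-1) 0 (by simp)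
        ((SX.isZero_of_isStrictlyGE 0 (-1) (by omega)).eq_of_src _ _)
    have h1 : Epi (HomologicalComplex.cyclesMap s 0 ≫ SX.homologyπ 0) := by
      rw [← HomologicalComplex.homologyπ_naturality]
      infer_instance
    have h2 : Epi (HomologicalComplex.cyclesMap s 0) := by
      have : HomologicalComplex.cyclesMap s 0 =
          (HomologicalComplex.cyclesMap s 0 ≫ SX.homologyπ 0) ≫ inv (SX.homologyπ 0) := by simp
      rw [this]
      infer_instance
    have : s.f 0 = inv (X'.iCycles 0) ≫ HomologicalComplex.cyclesMap s 0 ≫ SX.iCycles 0 := by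
      rw [HomologicalComplex.cyclesMap_i, IsIso.inv_hom_id_assoc]
    change Epi (s.f 0 ≫ π)
    rw [this]
    infer_instance
  refine ⟨_, e, hepi, ?_⟩
  let t : (CochainComplex.singleFunctor A 0).obj (X'.X 0) ⟶ X' :=
    HomologicalComplex.mkHomFromSingle (𝟙 _) fun k hk => (X'.isZero_of_isStrictlyLE 0 k (by
      simp only [ComplexShape.up_Rel] at hk; omega)).eq_of_tgt _ _
  have hts : t ≫ s = (CochainComplex.singleFunctor A 0).map e := by
    apply HomologicalComplex.from_single_hom_ext
    rw [HomologicalComplex.comp_f, HomologicalComplex.mkHomFromSingle_f, assoc, id_comp]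
    change _ = ((HomologicalComplex.single A (ComplexShape.up ℤ) 0).map e).f 0
    rw [HomologicalComplex.single_map_f_self]
    change _ = _ ≫ (s.f 0 ≫ π) ≫ _
    rw [assoc, Iso.hom_inv_id, comp_id]
  have htg : t ≫ g = 0 := by
    apply HomologicalComplex.from_single_hom_ext
    refine IsZero.eq_of_tgt ?_ _ _
    exact SY.isZero_of_isStrictlyLE 0 (0 + ((n + 1 : ℕ) : ℤ)) (by push_cast; omega)
  ext
  rw [Ext.comp_hom, Ext.mk₀_hom, ShiftedHom.mk₀_comp, Ext.zero_hom]
  let eE : (DerivedCategory.singleFunctor A 0).obj (X'.X 0) ≅ DerivedCategory.Q.obj _ :=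
    (DerivedCategory.singleFunctorIsoCompQ A 0).app (X'.X 0)
  have hx : x.hom = eX.hom ≫ (inv (DerivedCategory.Q.map s) ≫ DerivedCategory.Q.map g) ≫ c.hom ≫
      eY.inv⟦((n + 1 : ℕ) : ℤ)⟧' := by
    rw [← hg]
    simp [← Functor.map_comp]
  have he : (DerivedCategory.singleFunctor A 0).map e ≫ eX.hom =
      eE.hom ≫ DerivedCategory.Q.map (t ≫ s) := by
    rw [hts]
    exact (DerivedCategory.singleFunctorIsoCompQ A 0).hom.naturality e
  rw [hx, reassoc_of% he, Functor.map_comp]
  simp only [assoc, IsIso.hom_inv_id_assoc]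
  rw [← Functor.map_comp_assoc, htg, Functor.map_zero, zero_comp, comp_zero]

variable {B : Type u'} [Category.{v'} B] [Abelian B] [HasExt.{w'} B] (φ : A ⥤ B) [φ.Additive]
  [PreservesFiniteLimits φ] [PreservesFiniteColimits φ]

theorem mapExt_bijective_iff (M : A) :
    (∀ (L : A) (n : ℕ), Function.Bijective (fun f : Ext.{w} L M n => Ext.mapExactFunctor φ f)) ↔
      ((∀ L : A, Function.Bijective (fun f : L ⟶ M => φ.map f)) ∧
        ∀ (L : A) (n : ℕ), 1 ≤ n → ∀ x : Ext.{w'} (φ.obj L) (φ.obj M) n,
          ∃ (L' : A) (p : L' ⟶ L), Epi p ∧ (Ext.mk₀ (φ.map p)).comp x (zero_add n) = 0) := by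
  have e0 : ∀ L : A, Function.Bijective (fun f : Ext.{w} L M 0 => Ext.mapExactFunctor φ f) ↔
      Function.Bijective (fun f : L ⟶ M => φ.map f) := fun L => by
    rw [Ext.mapExactFunctor₀]
    change Function.Bijective (Ext.homEquiv₀.symm ∘ φ.map ∘ Ext.homEquiv₀) ↔ _
    rw [Function.Bijective.of_comp_iff' (Equiv.bijective _),
      Function.Bijective.of_comp_iff _ (Equiv.bijective _)]
  have hz : ∀ {L : A} (n : ℕ), Ext.mapExactFunctor φ (0 : Ext.{w} L M n) = 0 := fun {L} n =>
    (φ.mapExtAddHom L M n).map_zero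
  constructor
  · intro h
    refine ⟨fun L => (e0 L).1 (h L 0), fun L n hn x => ?_⟩
    obtain ⟨m, rfl⟩ : ∃ m, n = m + 1 := ⟨n - 1, by omega⟩
    obtain ⟨f, rfl⟩ := (h L (m + 1)).2 x
    obtain ⟨E, e, he, hf⟩ := exists_epi_killing m f
    refine ⟨E, e, he, ?_⟩
    rw [← Ext.mapExactFunctor_mk₀, ← Ext.mapExactFunctor_comp, hf, hz]
  · rintro ⟨h0, h1⟩ L n
    induction n generalizing L with
    | zero => exact (e0 L).2 (h0 L)
    | succ n ih =>
      constructor
      · intro f f' hff
        obtain ⟨E, e, he, hf⟩ := exists_epi_killing n (f - f')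
        let S := ShortComplex.mk _ _ (kernel.condition e)
        have hS : S.ShortExact := { exact := ShortComplex.exact_kernel e }
        obtain ⟨g, hg⟩ := Ext.contravariant_sequence_exact₃ hS M (f - f') hf (n₀ := n) (by omega)
        have h' : (hS.map_of_exact φ).extClass.comp (Ext.mapExactFunctor φ g) (by omega) =
            (0 : Ext.{w'} (φ.obj L) (φ.obj M) (n + 1)) := by
          rw [← Ext.mapExactFunctor_extClass (F := φ) (hS := hS), ← Ext.mapExactFunctor_comp, hg]
          change φ.mapExtAddHom L M (n + 1) (f - f') = 0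
          rw [map_sub, sub_eq_zero]
          exact hff
        obtain ⟨y, hy⟩ := Ext.contravariant_sequence_exact₁ (hS.map_of_exact φ) (φ.obj M)
          (Ext.mapExactFunctor φ g) (by omega) h'
        obtain ⟨y', rfl⟩ := (ih S.X₂).2 y
        have hg' : (Ext.mk₀ S.f).comp y' (zero_add n) = g := by
          refine (ih S.X₁).1 ?_
          change Ext.mapExactFunctor φ _ = Ext.mapExactFunctor φ g
          rw [Ext.mapExactFunctor_comp, Ext.mapExactFunctor_mk₀]
          exact hy
        have : f - f' = 0 := by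
          rw [← hg, ← hg', hS.extClass_comp_assoc]
        exact sub_eq_zero.1 this
      · intro x
        obtain ⟨E, p, hp, hx⟩ := h1 L (n + 1) (by omega) x
        let S := ShortComplex.mk _ _ (kernel.condition p)
        have hS : S.ShortExact := { exact := ShortComplex.exact_kernel p }
        obtain ⟨z, hz'⟩ := Ext.contravariant_sequence_exact₃ (hS.map_of_exact φ) (φ.obj M) x hx
          (n₀ := n) (by omega)
        obtain ⟨g, rfl⟩ := (ih S.X₁).2 z
        refine ⟨hS.extClass.comp g (by omega), ?_⟩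
        change Ext.mapExactFunctor φ _ = x
        rw [Ext.mapExactFunctor_comp, Ext.mapExactFunctor_extClass]
        exact hz'

end Efface

section FF

variable {A' : Type u'} [Category.{v'} A'] [Abelian A'] [HasDerivedCategory.{w'} A']
  {A : Type u} [Category.{v} A] [Abelian A] [HasDerivedCategory.{w} A]
  (ι : A' ⥤ A) [ι.Additive] [PreservesFiniteLimits ι] [PreservesFiniteColimits ι]

/-- Fully faithfulness on bounded below objects when there are enough relative injectives. -/
theorem mapDerived_bijective [ι.Full] [ι.Faithful]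
    (hinj : ∀ X' : A', ∃ (Y' : A') (i : X' ⟶ Y'), Mono i ∧ Injective (ι.obj Y'))
    (X Y : DerivedCategory A') (b : ℤ) [Y.IsGE b] :
    Function.Bijective (fun f : X ⟶ Y => ι.mapDerivedCategory.map f) := by
  have hinj' : ∀ Y' : A', Injective (ι.obj Y') → Injective Y' := fun Y' hY => by
    refine ⟨fun {P Q} g m _ => ?_⟩
    haveI := hY
    refine ⟨ι.preimage (Injective.factorThru (ι.map g) (ι.map m)), ι.map_injective ?_⟩
    rw [ι.map_comp, ι.map_preimage, Injective.comp_factorThru]
  haveI : EnoughInjectives A' := ⟨fun X' => by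
    obtain ⟨Y', i, hi, hY⟩ := hinj X'
    haveI := hi
    exact ⟨{ J := Y', injective := hinj' Y' hY, f := i, mono := hi }⟩⟩
  have hret : ∀ I : A', Injective I → Injective (ι.obj I) := fun I hI => by
    obtain ⟨Y', i, hi, hY⟩ := hinj I
    haveI := hI
    haveI := hi
    haveI := hY
    exact Retract.injective
      { i := ι.map i
        r := ι.map (Injective.factorThru (𝟙 I) i)
        retract := by rw [← ι.map_comp, Injective.comp_factorThru, ι.map_id] }
  obtain ⟨KY, hKY, ⟨eY⟩⟩ := DerivedCategory.exists_iso_Q_obj_of_isGE Y b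
  obtain ⟨I, hI, i, hi⟩ :=
    CochainComplex.Plus.exists_quasiIso_injective ⟨KY, b, inferInstance⟩ b
  let I' : CochainComplex A' ℤ := ((InjectiveObject.ι A').mapCochainComplexPlus.obj I).obj
  haveI : I'.IsStrictlyGE b :=
    (CochainComplex.isStrictlyGE_mapHomologicalComplex_obj_iff I.obj (InjectiveObject.ι A') b).2 hI
  haveI : ∀ n, Injective (I'.X n) := fun n => (I.obj.X n).property
  haveI : QuasiIso (i.hom : KY ⟶ I') := hi
  let IA : CochainComplex A ℤ := (ι.mapHomologicalComplex _).obj I'
  haveI : ∀ n, Injective (IA.X n) := fun n => hret _ inferInstance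
  haveI : CochainComplex.IsStrictlyGE IA b := inferInstance
  haveI : I'.IsKInjective := CochainComplex.isKInjective_of_injective I' b
  haveI : IA.IsKInjective := CochainComplex.isKInjective_of_injective IA b
  obtain ⟨KX, ⟨eX⟩⟩ : ∃ K : CochainComplex A' ℤ, Nonempty (DerivedCategory.Qh.obj
      ((HomotopyCategory.quotient A' (ComplexShape.up ℤ)).obj K) ≅ X) := by
    obtain ⟨K, ⟨e⟩⟩ : ∃ K, Nonempty (DerivedCategory.Q.obj K ≅ X) :=
      ⟨_, ⟨(DerivedCategory.Q : _ ⥤ DerivedCategory A').objObjPreimageIso X⟩⟩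
    exact ⟨K, ⟨(DerivedCategory.quotientCompQhIso A').app K ≪≫ e⟩⟩
  let q := HomotopyCategory.quotient A' (ComplexShape.up ℤ)
  let eY' : DerivedCategory.Qh.obj (q.obj I') ≅ Y :=
    (DerivedCategory.quotientCompQhIso A').app I' ≪≫
      (asIso (DerivedCategory.Q.map (i.hom : KY ⟶ I'))).symm ≪≫ eY.symm
  let Φ := ι.mapDerivedCategory
  have key : Function.Bijective
      (fun f : DerivedCategory.Qh.obj (q.obj KX) ⟶ DerivedCategory.Qh.obj (q.obj I') => Φ.map f) := by
    rw [← Function.Bijective.of_comp_iff _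
      (CochainComplex.IsKInjective.Qh_map_bijective (q.obj KX) I')]
    let ψ := ι.mapDerivedCategoryFactorsh
    have h2 : Function.Bijective (fun f : q.obj KX ⟶ q.obj I' =>
        DerivedCategory.Qh.map ((ι.mapHomotopyCategory (ComplexShape.up ℤ)).map f)) :=
      (CochainComplex.IsKInjective.Qh_map_bijective
        ((ι.mapHomotopyCategory (ComplexShape.up ℤ)).obj (q.obj KX)) IA).comp
        ⟨fun a a' h => (ι.mapHomotopyCategory _).map_injective h,
          fun a => (ι.mapHomotopyCategory _).map_surjective a⟩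
    have h3 := ((ψ.symm.app (q.obj KX)).homCongr (ψ.symm.app (q.obj I'))).bijective.comp h2
    refine (congrArg Function.Bijective (funext fun f => ?_)).mpr h3
    change Φ.map (DerivedCategory.Qh.map f) = ψ.hom.app _ ≫ _ ≫ ψ.inv.app _
    exact (NatIso.naturality_2 ψ f).symm
  have hc : (fun f : X ⟶ Y => Φ.map f) =
      ((Φ.mapIso eX).homCongr (Φ.mapIso eY')) ∘
        (fun f : DerivedCategory.Qh.obj (q.obj KX) ⟶ DerivedCategory.Qh.obj (q.obj I') => Φ.map f) ∘
        (eX.homCongr eY').symm := by
    funext f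
    simp [Iso.homCongr, ← Functor.map_comp]
  change Function.Bijective (fun f : X ⟶ Y => Φ.map f)
  rw [hc]
  exact (Equiv.bijective _).comp (key.comp (Equiv.bijective _))

end FF

end Groth.Agent.DerPlus
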